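/-
Certificate data of a coset enumeration.
-/
import Cfsg.Agent.Lib.HeldRecog.L31.Data

set_option autoImplicit false
set_option maxRecDepth 1000000

namespace CfsgLib.HeldRecog.L31

open CfsgLib.CosetEnum

/-- Completion of the rows from 0. -/
def rows0 : List (List ℕ) := [[0x1, 0x1001, 0x2001, 0x3001, 0x4001, 0x5001], [0x9001, 0x6001, 0x8001, 0x7001, 0xa001, 0x5001], [0x9001, 0xb001, 0xd001, 0x10001, 0x296200012002, 0xe001], [0x13001, 0x14001, 0x15001, 0x16001, 0xa001, 0x18001], [0x19001, 0xb001, 0x1b001, 0x1e001, 0x296b0001f002, 0xc001], [0xf001, 0x1c001, 0xd001, 0x20001, 0x25001, 0xe001], [0x26001, 0x2a001, 0x21001, 0x10001, 0x2e001, 0x11001], [0x13001, 0x34001, 0x297f00035002, 0x29a400036002, 0x2a1a00037002, 0x38001], [0x39001, 0x14001, 0x2aa20003a002, 0x2ab00003d002, 0x27ee0003f002, 0x2a7900042002], [0x43001, 0x2aa20003b002, 0x15001, 0x16001, 0x17001, 0x2aa400044002], [0x45001, 0x2a9c00046002, 0x2a9d00047002, 0x2a9e00048002, 0x49001, 0x18001],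 [0x19001, 0x1a001, 0x295f0004a002, 0x29600004c002, 0x280d0004d002, 0x2a2a0004e002], [0x29650004f002, 0x1c001, 0x1b001, 0x2c001, 0x2a6100050002, 0x1d001], [0x51001, 0x22001, 0x2b001, 0x1e001, 0x52001, 0x2d001], [0x24001, 0x22001, 0x21001, 0x20001, 0x287d00058002, 0x23001], [0x29810005b002, 0x25720005c002, 0x2a700005d002, 0x287400060002, 0x25001, 0x2a8200063002], [0x26001, 0x64001, 0x28001, 0x27001, 0x288500068002, 0x29001], [0x299f00069002, 0x2a001, 0x2b001, 0x2c001, 0x29680006a002, 0x2d001], [0x6d001, 0x6e001, 0x287400061002, 0x2a700005e002, 0x2e001, 0x2aa90006f002], [0x28c300084002, 0x34001, 0x29c400085002, 0x29c600087002, 0x2a0200088002, 0x2a8d00089002], [0x2aa700095002, 0x2aa500096002, 0x2a8c00097002, 0x2aa600098002, 0x2ab300099002, 0x38001], [0x39001, 0x2a6b0009a002, 0x2a880009b002, 0x2a890009c002, 0x292e0009d002, 0x2aaa0009e002], [0x43001, 0x2891000b5002, 0x27c1000b6002, 0xb8001, 0x2728000ba002, 0x2aad000bc002], [0x45001, 0x2a78000bd002, 0x2a5a000bf002,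 0x2a66000c3002, 0x2a67000c4002, 0x2a96000c6002], [0x2a92000ca002, 0x2a93000cc002, 0x2a86000cd002, 0x2a9f000d0002, 0x49001, 0x2ab7000d4002], [0x51001, 0x2a7a000e9002, 0x29a5000f0002, 0x2866000f2002, 0x29aa000f4002, 0x2ab6000f8002], [0x2530000f3002, 0x283e000f5002, 0x275d000ed002, 0x290e000e7002, 0x52001, 0x2a80000f9002], [0x29ca0012c002, 0x64001, 0x65001, 0x66001, 0x29930012e002, 0x67001], [0x6d001, 0x27be00137002, 0x28800013c002, 0x26710013f002, 0x287f00141002, 0x2aa300144002], [0x2ab100140002, 0x6e001, 0x285c00123002, 0x27c500142002, 0x287300145002, 0x2a8100148002], [0x2642001c1002, 0x287b00231002, 0x28010022a002, 0xb8001, 0x27df00236002, 0x2a980023d002]]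

theorem rows0_ok : okRows data table 10936 0 rows0 = true := by decide +kernel

theorem rows0_len : rows0.length = 31 := by decide +kernel

end CfsgLib.HeldRecog.L31
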